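import Groth.Agent.Lib.Formal2Chase7.Basic
import Groth.Agent.Lib.Punctured.TildeSections

/-!
# Degree zero formal comparisons in terms of linear maps of sections
-/

set_option autoImplicit false
set_option linter.style.haveILetI false
set_option linter.unusedSectionVars false

universe u

open CategoryTheory AlgebraicGeometry Opposite TopologicalSpace Formal2

noncomputable section

namespace GrothLib.ColimSec7

variable {A : Type u} [CommRing A] {M N P : Type u} [AddCommGroup M] [Module A M] [AddCommGroup N] [Module A N]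
  [AddCommGroup P] [Module A P]

/-- The sections of `M~` over an open. -/
abbrev S (M : Type u) [AddCommGroup M] [Module A M] (V : (Spec (CommRingCat.of A)).Opens) :
    ModuleCat.{u} (CommRingCat.of A) :=
  (modulesSpecToSheaf.obj (tilde (ModuleCat.of (CommRingCat.of A) M))).presheaf.obj (op V)

/-- The map on sections of a linear map. -/
def mp (φ : M →ₗ[A] N) (V : (Spec (CommRingCat.of A)).Opens) : S M V →ₗ[A] S N V :=
  ((modulesSpecToSheaf.map (tilde.map (ModuleCat.ofHom (R := CommRingCat.of A) φ))).hom.app (op V)).hom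

/-- Restriction of sections. -/
def r (M : Type u) [AddCommGroup M] [Module A M] {V W : (Spec (CommRingCat.of A)).Opens} (h : W ≤ V) :
    S M V →ₗ[A] S M W :=
  ((modulesSpecToSheaf.obj (tilde (ModuleCat.of (CommRingCat.of A) M))).presheaf.map (homOfLE h).op).hom

/-- The sections of elements of the module. -/
def t (M : Type u) [AddCommGroup M] [Module A M] (V : (Spec (CommRingCat.of A)).Opens) : M →ₗ[A] S M V :=
  (tilde.toOpen (ModuleCat.of (CommRingCat.of A) M) V).hom

theorem mp_t (φ : M →ₗ[A] N) (V : (Spec (CommRingCat.of A)).Opens) (m : M) : mp φ V (t M V m) = t N V (φ m) :=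
  ConcreteCategory.congr_hom (tilde.toOpen_map_app (ModuleCat.ofHom (R := CommRingCat.of A) φ) V) m

theorem r_t {V W : (Spec (CommRingCat.of A)).Opens} (h : W ≤ V) (m : M) : r M h (t M V m) = t M W m :=
  ConcreteCategory.congr_hom (tilde.toOpen_res (ModuleCat.of (CommRingCat.of A) M) V W (homOfLE h)) m

theorem r_r {V W W' : (Spec (CommRingCat.of A)).Opens} (h : W ≤ V) (h' : W' ≤ W) (s : S M V) :
    r M h' (r M h s) = r M (h'.trans h) s :=
  (ConcreteCategory.congr_hom ((modulesSpecToSheaf.obj (tilde (ModuleCat.of (CommRingCat.of A) M))).presheaf.map_comp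
    (homOfLE h).op (homOfLE h').op) s).symm

theorem mp_r (φ : M →ₗ[A] N) {V W : (Spec (CommRingCat.of A)).Opens} (h : W ≤ V) (s : S M V) :
    r N h (mp φ V s) = mp φ W (r M h s) :=
  (ConcreteCategory.congr_hom
    ((modulesSpecToSheaf.map (tilde.map (ModuleCat.ofHom (R := CommRingCat.of A) φ))).hom.naturality (homOfLE h).op) s).symm

theorem mp_comp (φ : M →ₗ[A] N) (ψ : N →ₗ[A] P) (V : (Spec (CommRingCat.of A)).Opens) (s : S M V) :
    mp (ψ ∘ₗ φ) V s = mp ψ V (mp φ V s) := by
  show ((tilde.functor (CommRingCat.of A) ⋙ modulesSpecToSheaf).map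
    (ModuleCat.ofHom (R := CommRingCat.of A) φ ≫ ModuleCat.ofHom (R := CommRingCat.of A) ψ)).hom.app (op V) s = _
  rw [Functor.map_comp]
  rfl

/-- Degree zero cohomology is sections. -/
def toS (M : Type u) [AddCommGroup M] [Module A M] (V : (Spec (CommRingCat.of A)).Opens) :
    HV A M 0 V ≃+ S M V :=
  Formal2Chase7.toSec M V

theorem toS_map (φ : M →ₗ[A] N) (V : (Spec (CommRingCat.of A)).Opens) (ξ : HV A M 0 V) :
    toS N V (HVmap A φ 0 V ξ) = mp φ V (toS M V ξ) :=
  Formal2Chase7.toSec_map φ V ξ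

theorem HU0_res {X : TopCat.{u}} {F : CohTop.Ab X} {U V : Opens X} (f : V ≤ U) (ξ : CohTop.HU F 0 U) :
    SheafCoh.HU0 F V (CohTop.res F 0 f ξ) = (F.obj.map (homOfLE f).op).hom (SheafCoh.HU0 F U ξ) := by
  obtain ⟨ψ, hψ⟩ := (Abelian.Ext.mk₀_bijective _ _).2 (SheafCoh.HUext F 0 U ξ)
  have h : SheafCoh.HUext F 0 V (CohTop.res F 0 f ξ) =
      Abelian.Ext.mk₀ (SheafCoh.freeYMap (Opens.grothendieckTopology X) (homOfLE f) ≫ ψ) :=
    (SheafCoh.res_eq F 0 (homOfLE f) ξ).trans (by rw [← hψ]; exact Abelian.Ext.mk₀_comp_mk₀ _ _)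
  show SheafCoh.homFreeY F V (Abelian.Ext.addEquiv₀ (SheafCoh.HUext F 0 V (CohTop.res F 0 f ξ))) =
    (F.obj.map (homOfLE f).op).hom (SheafCoh.homFreeY F U (Abelian.Ext.addEquiv₀ (SheafCoh.HUext F 0 U ξ)))
  rw [h, ← hψ, ← Abelian.Ext.addEquiv₀_symm_apply, ← Abelian.Ext.addEquiv₀_symm_apply, AddEquiv.apply_symm_apply,
    AddEquiv.apply_symm_apply]
  exact SheafCoh.homFreeY_map _ (homOfLE f) ψ

theorem toS_res {V W : (Spec (CommRingCat.of A)).Opens} (h : W ≤ V) (ξ : HV A M 0 V) :
    toS M W (HVres A M 0 h ξ) = r M h (toS M V ξ) :=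
  HU0_res h ξ

theorem mp_zero (V : (Spec (CommRingCat.of A)).Opens) (s : S M V) : mp (0 : M →ₗ[A] N) V s = 0 := by
  obtain ⟨ξ, rfl⟩ := (toS M V).surjective s
  rw [← toS_map, Formal2Chase7.HVmap_zero, map_zero]

theorem mp_id (V : (Spec (CommRingCat.of A)).Opens) (s : S M V) : mp (LinearMap.id : M →ₗ[A] M) V s = s := by
  obtain ⟨ξ, rfl⟩ := (toS M V).surjective s
  rw [← toS_map, Formal2Chase7.HVmap_id]

theorem mp_injective (φ : M →ₗ[A] N) (hφ : Function.Injective φ) (V : (Spec (CommRingCat.of A)).Opens) :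
    Function.Injective (mp φ V) := fun a b h => by
  obtain ⟨x, rfl⟩ := (toS M V).surjective a
  obtain ⟨y, rfl⟩ := (toS M V).surjective b
  rw [← toS_map, ← toS_map] at h
  exact congrArg _ (Formal2Chase7.injective_HVmap φ hφ V ((toS N V).injective h))

theorem exists_mp_eq (f : M →ₗ[A] N) (g : N →ₗ[A] P) (hf : Function.Injective f) (hfg : LinearMap.range f = LinearMap.ker g)
    (V : (Spec (CommRingCat.of A)).Opens) {y : S N V} (hy : mp g V y = 0) : ∃ x, mp f V x = y := by
  let g₀ := (LinearMap.ker g).mkQ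
  have h0 : mp g₀ V y = 0 := by
    apply mp_injective ((LinearMap.ker g).liftQ g le_rfl)
      (LinearMap.ker_eq_bot.1 (Submodule.ker_liftQ_eq_bot _ _ _ le_rfl)) V
    rw [map_zero, ← mp_comp, show (LinearMap.ker g).liftQ g le_rfl ∘ₗ g₀ = g from Submodule.liftQ_mkQ _ _ _, hy]
  obtain ⟨ξ, rfl⟩ := (toS N V).surjective y
  obtain ⟨x, hx⟩ := Formal2Chase7.exists_of_map_eq_zero f g₀ hf (Submodule.mkQ_surjective _)
    (hfg.trans (Submodule.ker_mkQ _).symm) V ξ ((toS _ V).injective (by rw [toS_map, h0, map_zero]))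
  exact ⟨toS M V x, by rw [← toS_map, hx]⟩

end GrothLib.ColimSec7
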