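import Groth.Agent.Lib.ColimSec7.Sections

/-!
# The colimit of sections against the formal limit in a short exact sequence
-/

set_option autoImplicit false
set_option linter.style.haveILetI false
set_option linter.unusedSectionVars false

universe u

open CategoryTheory AlgebraicGeometry Opposite TopologicalSpace Formal2

noncomputable section

namespace GrothLib.ColimSec7

open GrothLib.Formal2Chase7 (quotMap tr)

variable {A : Type u} [CommRing A] (I : Ideal A) (U : (Spec (CommRingCat.of A)).Opens)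

/-- Injectivity of the comparison from the colimit, on sections. -/
def Inj (M : Type u) [AddCommGroup M] [Module A M] : Prop :=
  ∀ V, Admissible A I U V → ∀ s : S M V, (∀ n, mp (quotPowπ A I M n) V s = 0) →
    ∃ (V' : _) (h : Admissible A I U V' ∧ V' ≤ V), r M h.2 s = 0

/-- Surjectivity of the comparison from the colimit, on sections. -/
def Surj (M : Type u) [AddCommGroup M] [Module A M] : Prop :=
  ∀ y : ∀ n, S (quotPow A I M n) U, (∀ n, mp (quotPowTrans A I M n) U (y (n + 1)) = y n) →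
    ∃ (V : _) (hV : Admissible A I U V) (s : S M V), ∀ n, r _ hV.1 (y n) = mp (quotPowπ A I M n) V s

variable {I U} {M M' M'' : Type u} [AddCommGroup M] [Module A M] [AddCommGroup M'] [Module A M']
  [AddCommGroup M''] [Module A M'']

theorem inj_surj_of_bijective (h : FormalCohColimBijective A I M 0 U) : Inj I U M ∧ Surj I U M := by
  refine ⟨fun V hV s hs => ?_, fun y hy => ?_⟩
  · obtain ⟨V', hV', hres⟩ := h.1 V hV ((toS M V).symm s) fun n => (toS _ V).injective (by
      rw [toS_map, AddEquiv.apply_symm_apply, hs n, map_zero])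
    exact ⟨V', hV', by rw [← (toS M V).apply_symm_apply s, ← toS_res hV'.2, hres, map_zero]⟩
  · obtain ⟨V, hV, x, hx⟩ := h.2 (fun n => (toS _ U).symm (y n)) fun n => (toS _ U).injective (by
      rw [toS_map, AddEquiv.apply_symm_apply, AddEquiv.apply_symm_apply, hy n])
    refine ⟨V, hV, toS M V x, fun n => ?_⟩
    rw [← toS_map, ← hx n, toS_res, AddEquiv.apply_symm_apply]

theorem bijective_of_inj_surj (hi : Inj I U M) (hs : Surj I U M) : FormalCohColimBijective A I M 0 U := by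
  refine ⟨fun V hV x hx => ?_, fun y hy => ?_⟩
  · obtain ⟨V', hV', hres⟩ := hi V hV (toS M V x) fun n => by rw [← toS_map, hx n, map_zero]
    exact ⟨V', hV', (toS M V').injective (by rw [toS_res, hres, map_zero])⟩
  · obtain ⟨V, hV, s, hs⟩ := hs (fun n => toS _ U (y n)) fun n => by rw [← toS_map, hy n]
    refine ⟨V, hV, (toS M V).symm s, fun n => (toS _ V).injective ?_⟩
    rw [toS_res, toS_map, AddEquiv.apply_symm_apply, hs n]

theorem admissible_finset {ι : Type*} (s : Finset ι) (V : ι → (Spec (CommRingCat.of A)).Opens)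
    (hV : ∀ i ∈ s, Admissible A I U (V i)) : Admissible A I U (U ⊓ s.inf V) := by
  classical
  refine ⟨inf_le_left, fun p hp hI => ⟨hp, ?_⟩⟩
  induction s using Finset.induction with
  | empty => rw [Finset.inf_empty]; trivial
  | insert i s _ ih =>
    rw [Finset.inf_insert]
    exact ⟨(hV i (Finset.mem_insert_self i s)).2 p hp hI, ih fun j hj => hV j (Finset.mem_insert_of_mem hj)⟩

variable [IsNoetherianRing A]

/-- An open is covered by finitely many basic opens inside it. -/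
theorem exists_basic_cover (V : (Spec (CommRingCat.of A)).Opens) :
    ∃ (k : ℕ) (a : Fin k → A), (∀ i, D (a i) ≤ V) ∧ ∀ p ∈ V, ∃ i, p ∈ D (a i) := by
  obtain ⟨t, ht, hW⟩ := (isCompact_open_iff_eq_finite_iUnion_of_isTopologicalBasis _
    PrimeSpectrum.isTopologicalBasis_basic_opens PrimeSpectrum.isCompact_basicOpen _).mp
    ⟨NoetherianSpace.isCompact (V : Set (Spec (CommRingCat.of A))), V.2⟩
  obtain ⟨k, e⟩ := ht.fin_param
  obtain ⟨a, -, rfl⟩ := e
  refine ⟨k, a, fun i p hp => ?_, fun p hp => ?_⟩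
  · exact (Set.ext_iff.1 hW p).2 (Set.mem_biUnion (Set.mem_range_self i) hp)
  · obtain ⟨_, ⟨i, rfl⟩, hi⟩ := Set.mem_iUnion₂.1 ((Set.ext_iff.1 hW p).1 hp)
    exact ⟨i, hi⟩

/-- A section defined after multiplying by elements whose basic opens cover. -/
theorem exists_section_of_smul (hi : Inj I U M) (y : ∀ n, S (quotPow A I M n) U)
    {k : ℕ} (a : Fin k → A) {V₀ : (Spec (CommRingCat.of A)).Opens} (hV₀ : Admissible A I U V₀)
    (hcov : ∀ p ∈ V₀, ∃ i, p ∈ D (a i))
    (h : ∀ i, ∃ (V : _) (hV : Admissible A I U V) (e : ℕ) (σ : S M V),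
      ∀ n, mp (quotPowπ A I M n) V σ = a i ^ e • r _ hV.1 (y n)) :
    ∃ (V : _) (hV : Admissible A I U V) (s : S M V), ∀ n, r _ hV.1 (y n) = mp (quotPowπ A I M n) V s := by
  classical
  choose V hV e σ hσ using h
  -- an admissible open inside all
  let V₁ := V₀ ⊓ (U ⊓ Finset.univ.inf V)
  have hA₁ := admissible_finset (I := I) (U := U) Finset.univ V fun i _ => hV i
  have hV₁ : Admissible A I U V₁ := ⟨inf_le_left.trans hV₀.1, fun p hp hI => ⟨hV₀.2 p hp hI, hA₁.2 p hp hI⟩⟩
  have hle : ∀ i, V₁ ≤ V i := fun i => inf_le_right.trans (inf_le_right.trans (Finset.inf_le (Finset.mem_univ i)))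
  have hd : ∀ i j, ∀ n, mp (quotPowπ A I M n) V₁
      (a j ^ e j • r M (hle i) (σ i) - a i ^ e i • r M (hle j) (σ j)) = 0 := fun i j n => by
    rw [map_sub, map_smul, map_smul, ← mp_r, ← mp_r, hσ, hσ, map_smul, map_smul, r_r, r_r, smul_comm, sub_self]
  choose W hW hW0 using fun p : Fin k × Fin k => hi V₁ hV₁ _ (hd p.1 p.2)
  let V₂ := V₁ ⊓ (U ⊓ Finset.univ.inf W)
  have hA₂ := admissible_finset (I := I) (U := U) Finset.univ W fun p _ => (hW p).1
  have hV₂ : Admissible A I U V₂ := ⟨inf_le_left.trans hV₁.1, fun p hp hI => ⟨hV₁.2 p hp hI, hA₂.2 p hp hI⟩⟩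
  have hle₂ : V₂ ≤ V₁ := inf_le_left
  have hle₂' : ∀ p, V₂ ≤ W p := fun p => inf_le_right.trans (inf_le_right.trans (Finset.inf_le (Finset.mem_univ p)))
  have hag : ∀ i j, a j ^ e j • r M (hle₂.trans (hle i)) (σ i) = a i ^ e i • r M (hle₂.trans (hle j)) (σ j) := fun i j => by
    have h0 := congrArg (r M (hle₂' (i, j))) (hW0 (i, j))
    rw [map_zero, r_r, map_sub, map_smul, map_smul, r_r, r_r, sub_eq_zero] at h0
    exact h0
  -- the pieces
  let T : Fin k → (Spec (CommRingCat.of A)).Opens := fun i => V₂ ⊓ D (a i)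
  have hT : ∀ i, T i ≤ V₂ := fun i => inf_le_left
  choose x hx using fun i => smul_surjective (inf_le_right : T i ≤ D (a i)) (e i)
    (r M ((hT i).trans (hle₂.trans (hle i))) (σ i))
  have hcov' : V₂ ≤ ⨆ i : ULift.{u} (Fin k), T i.down := fun p hp => by
    obtain ⟨i, hi⟩ := hcov p (inf_le_left (a := V₀) (hle₂ hp))
    exact Opens.mem_iSup.2 ⟨⟨i⟩, hp, hi⟩
  obtain ⟨s, hs⟩ := exists_glue (U := fun i : ULift.{u} (Fin k) => T i.down) (fun i => hT i.down) hcov'
    (fun i => x i.down) fun ⟨i⟩ ⟨j⟩ => by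
    refine smul_injective (inf_le_left.trans inf_le_right : T i ⊓ T j ≤ D (a i)) (e i) ?_
    refine smul_injective (inf_le_right.trans inf_le_right : T i ⊓ T j ≤ D (a j)) (e j) ?_
    show a j ^ e j • (a i ^ e i • r M (inf_le_left : T i ⊓ T j ≤ T i) (x i)) =
      a j ^ e j • (a i ^ e i • r M (inf_le_right : T i ⊓ T j ≤ T j) (x j))
    have h0 := congrArg (r M (inf_le_left.trans (hT i) : T i ⊓ T j ≤ V₂)) (hag i j)
    rw [map_smul, map_smul, r_r, r_r] at h0
    have h1 : ∀ l (hl : T i ⊓ T j ≤ T l), a l ^ e l • r M hl (x l) =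
        r M (hl.trans ((hT l).trans (hle₂.trans (hle l)))) (σ l) := fun l hl => by
      rw [← map_smul, hx, r_r]
    rw [h1 i inf_le_left, smul_comm (a j ^ e j) (a i ^ e i) (r M (inf_le_right : T i ⊓ T j ≤ T j) (x j)), h1 j inf_le_right]
    exact h0
  refine ⟨V₂, hV₂, s, fun n => eq_of_locally (U := fun i : ULift.{u} (Fin k) => T i.down)
    (fun i => hT i.down) hcov' fun ⟨i⟩ => ?_⟩
  refine smul_injective (inf_le_right : T i ≤ D (a i)) (e i) ?_
  rw [mp_r, hs ⟨i⟩, ← map_smul (mp (quotPowπ A I M n) (T i)), hx, ← mp_r, hσ, map_smul, r_r, r_r]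

/-- A compatible family of kernels of the target comes from the source after a shift of levels. -/
theorem exists_shift {P Q R T : ℕ → Type u} [∀ n, AddCommGroup (P n)] [∀ n, Module A (P n)]
    [∀ n, AddCommGroup (Q n)] [∀ n, Module A (Q n)] [∀ n, AddCommGroup (R n)] [∀ n, Module A (R n)]
    [∀ n, AddCommGroup (T n)] [∀ n, Module A (T n)] (c : ℕ)
    (τ : ∀ n, P (n + 1) →ₗ[A] P n) (ρ : ∀ n, Q (n + 1) →ₗ[A] Q n) (τ' : ∀ n, R (n + 1) →ₗ[A] R n)
    (β : ∀ n, Q n →ₗ[A] P n) (κ : ∀ n, P n →ₗ[A] T n) (γ : ∀ n, Q (c + n) →ₗ[A] R n)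
    (φ : ∀ n, R n →ₗ[A] P n) (d : ∀ n, P (c + n) →ₗ[A] P n)
    (hβ : ∀ n, Function.Injective (β n)) (hβr : ∀ n, LinearMap.range (β n) = LinearMap.ker (κ n))
    (hρ : ∀ n, β n ∘ₗ ρ n = τ n ∘ₗ β (n + 1)) (hγ : ∀ n, τ' n ∘ₗ γ (n + 1) = γ n ∘ₗ ρ (c + n))
    (hφ : ∀ n, φ n ∘ₗ γ n = d n ∘ₗ β (c + n))
    (z : ∀ n, S (P n) U) (hz : ∀ n, mp (τ n) U (z (n + 1)) = z n) (hd : ∀ n, mp (d n) U (z (c + n)) = z n)
    (hz0 : ∀ n, mp (κ n) U (z n) = 0) :
    ∃ u : ∀ n, S (R n) U, (∀ n, mp (τ' n) U (u (n + 1)) = u n) ∧ ∀ n, mp (φ n) U (u n) = z n := by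
  choose w hw using fun n => exists_mp_eq (β n) (κ n) (hβ n) (hβr n) U (hz0 n)
  have hwc : ∀ n, mp (ρ n) U (w (n + 1)) = w n := fun n => mp_injective (β n) (hβ n) U (by
    rw [← mp_comp, hρ n, mp_comp, hw, hw, hz n])
  refine ⟨fun n => mp (γ n) U (w (c + n)), fun n => ?_, fun n => ?_⟩
  · rw [← mp_comp, hγ n, mp_comp]
    exact congrArg (mp (γ n) U) (hwc (c + n))
  · rw [← mp_comp, hφ n, mp_comp, hw, hd n]

theorem tr_self' (n : ℕ) : tr I M (le_refl n) = LinearMap.id :=
  LinearMap.ext fun q => Submodule.Quotient.induction_on _ q fun x => rfl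

theorem tr_step {n N : ℕ} (h : n ≤ N) :
    tr I M (Nat.le_succ_of_le h) = tr I M h ∘ₗ quotPowTrans A I M N :=
  Formal2Chase7.mapQ_id_comp _ _ _ _ _ _

theorem tr_z (z : ∀ n, S (quotPow A I M n) U) (hz : ∀ n, mp (quotPowTrans A I M n) U (z (n + 1)) = z n) (n N : ℕ)
    (h : n ≤ N) : mp (tr I M h) U (z N) = z n := by
  induction h with
  | refl => rw [tr_self', mp_id]
  | @step N h ih => rw [tr_step h, mp_comp, hz, ih]

theorem surj_middle [Module.Finite A M] (f : M' →ₗ[A] M) (g : M →ₗ[A] M'') (hf : Function.Injective f)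
    (hg : Function.Surjective g) (hfg : LinearMap.range f = LinearMap.ker g) (hi : Inj I U M)
    (h' : Surj I U M') (h'' : Surj I U M'') : Surj I U M := by
  intro y hy
  have nat : ∀ n, quotMap I g n ∘ₗ quotPowTrans A I M n = quotPowTrans A I M'' n ∘ₗ quotMap I g (n + 1) := fun n =>
    LinearMap.ext fun m => Submodule.Quotient.induction_on _ m fun x => rfl
  obtain ⟨V, hV, x, hx⟩ := h'' (fun n => mp (quotMap I g n) U (y n)) fun n => by
    rw [← mp_comp, ← nat n, mp_comp, hy n]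
  obtain ⟨k, a, ha, hcov⟩ := exists_basic_cover V
  refine exists_section_of_smul hi y a hV hcov fun i => ?_
  obtain ⟨e, m'', hm''⟩ := exists_pow_smul_eq (ha i) x
  obtain ⟨m, rfl⟩ := hg m''
  let z : ∀ n, S (quotPow A I M n) U := fun n => a i ^ e • y n - t _ U (quotPowπ A I M n m)
  have hz : ∀ n, mp (quotPowTrans A I M n) U (z (n + 1)) = z n := fun n => by
    simp only [z, map_sub, map_smul, mp_t, hy n]
    rfl
  have hz0 : ∀ n, mp (quotMap I g n) U (z n) = 0 := fun n => by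
    refine r_injective (n := n + 1) (fun b hb q => ?_) hV ?_
    · obtain ⟨q, rfl⟩ := Submodule.Quotient.mk_surjective _ q
      exact (Submodule.Quotient.mk_eq_zero _).2 (Submodule.smul_mem_smul hb trivial)
    simp only [z, map_sub, map_smul, mp_t, r_t, map_zero, hx n]
    rw [← map_smul, hm'', mp_t, sub_eq_zero]
    rfl
  -- transfer to the kernel
  obtain ⟨c, hc⟩ := Ideal.exists_pow_inf_eq_pow_smul I (LinearMap.range f)
  let K : ℕ → Submodule A M' := fun n => (I ^ (n + 1) • (⊤ : Submodule A M)).comap f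
  have hK : ∀ n, K (n + c) ≤ I ^ (n + 1) • (⊤ : Submodule A M') := fun n z hz => by
    have h1 : f z ∈ I ^ (n + c + 1 - c) • (I ^ c • (⊤ : Submodule A M) ⊓ LinearMap.range f) :=
      (hc (n + c + 1) (by omega)).le ⟨hz, LinearMap.mem_range_self f z⟩
    have h2 : f z ∈ Submodule.map f (I ^ (n + 1) • (⊤ : Submodule A M')) := by
      rw [Submodule.map_smul'', Submodule.map_top]
      rw [show n + c + 1 - c = n + 1 by omega] at h1
      exact Submodule.smul_mono le_rfl inf_le_right h1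
    obtain ⟨w, hw, hwz⟩ := h2
    exact hf hwz ▸ hw
  let β : ∀ n, (M' ⧸ K n) →ₗ[A] quotPow A I M n := fun n => Submodule.mapQ (K n) _ f le_rfl
  have hβ : ∀ n, Function.Injective (β n) := fun n => (injective_iff_map_eq_zero _).2 fun q hq => by
    obtain ⟨q, rfl⟩ := Submodule.Quotient.mk_surjective _ q
    exact (Submodule.Quotient.mk_eq_zero _).2 ((Submodule.Quotient.mk_eq_zero (I ^ (n + 1) • (⊤ : Submodule A M))).1 hq)
  have hβr : ∀ n, LinearMap.range (β n) = LinearMap.ker (quotMap I g n) := fun n => by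
    refine le_antisymm ?_ fun q hq => ?_
    · rintro _ ⟨q, rfl⟩
      obtain ⟨q, rfl⟩ := Submodule.Quotient.mk_surjective _ q
      refine (Submodule.Quotient.mk_eq_zero _).2 ?_
      rw [show g (f q) = 0 from (hfg ▸ LinearMap.mem_range_self f q : f q ∈ LinearMap.ker g)]
      exact zero_mem _
    · obtain ⟨q, rfl⟩ := Submodule.Quotient.mk_surjective _ q
      have h1 : g q ∈ I ^ (n + 1) • (⊤ : Submodule A M'') := (Submodule.Quotient.mk_eq_zero _).1 hq
      rw [← LinearMap.range_eq_top.2 hg, ← Submodule.map_top, ← Submodule.map_smul''] at h1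
      obtain ⟨w, hw, hwq⟩ := h1
      obtain ⟨v, hv⟩ := hfg.ge (show q - w ∈ LinearMap.ker g by rw [LinearMap.mem_ker, map_sub, hwq, sub_self])
      refine ⟨Submodule.Quotient.mk v, (Submodule.Quotient.eq _).2 ?_⟩
      rw [hv, sub_sub_cancel_left]
      exact neg_mem hw
  let ρ : ∀ n, (M' ⧸ K (n + 1)) →ₗ[A] (M' ⧸ K n) := fun n =>
    Submodule.factor (Submodule.comap_mono (Submodule.smul_mono_left (Ideal.pow_le_pow_right (Nat.le_succ _))))
  have hK' : ∀ n, K (c + n) ≤ I ^ (n + 1) • (⊤ : Submodule A M') := fun n => add_comm n c ▸ hK n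
  obtain ⟨w, hwc, hwf⟩ := exists_shift (P := fun n => quotPow A I M n) (Q := fun n => M' ⧸ K n)
    (R := fun n => quotPow A I M' n) (T := fun n => quotPow A I M'' n) c
    (fun n => quotPowTrans A I M n) ρ (fun n => quotPowTrans A I M' n) β (fun n => quotMap I g n)
    (fun n => Submodule.factor (hK' n)) (fun n => quotMap I f n) (fun n => tr I M (Nat.le_add_left n c)) hβ hβr
    (fun n => LinearMap.ext fun q => Submodule.Quotient.induction_on _ q fun q => rfl)
    (fun n => LinearMap.ext fun q => Submodule.Quotient.induction_on _ q fun q => rfl)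
    (fun n => LinearMap.ext fun q => Submodule.Quotient.induction_on _ q fun q => rfl) z hz
    (fun n => tr_z z hz n (c + n) (Nat.le_add_left n c)) hz0
  obtain ⟨V₁, hV₁, x', hx'⟩ := h' w hwc
  refine ⟨V₁, hV₁, e, t M V₁ m + mp f V₁ x', fun n => ?_⟩
  have nat' : quotPowπ A I M n ∘ₗ f = quotMap I f n ∘ₗ quotPowπ A I M' n := rfl
  have h2 : mp (quotPowπ A I M n) V₁ (mp f V₁ x') = r _ hV₁.1 (z n) := by
    rw [← hwf n, mp_r, hx' n, ← mp_comp, ← mp_comp, nat']
  rw [map_add, h2, mp_t]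
  simp only [z, map_sub, map_smul, r_t]
  abel

theorem inj_middle (f : M' →ₗ[A] M) (g : M →ₗ[A] M'') (hf : Function.Injective f)
    (hg : Function.Surjective g) (hfg : LinearMap.range f = LinearMap.ker g) [Module.Finite A M]
    (hi' : Inj I U M') (hi'' : Inj I U M'') : Inj I U M := by
  intro V hV s hs
  have nat : ∀ n, quotPowπ A I M'' n ∘ₗ g = quotMap I g n ∘ₗ quotPowπ A I M n := fun n => rfl
  obtain ⟨V₁, ⟨hV₁, hle⟩, h1⟩ := hi'' V hV (mp g V s) fun n => by
    rw [← mp_comp, nat n, mp_comp, hs n, map_zero]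
  obtain ⟨x, hx⟩ := exists_mp_eq f g hf hfg V₁ (y := r M hle s) (by rw [← mp_r, h1])
  let ξ : ∀ n, HV A (quotPow A I M' n) 0 V₁ := fun n => (toS _ V₁).symm (mp (quotPowπ A I M' n) V₁ x)
  have h0 : ∀ n, mp (quotPowπ A I M' n) V₁ x = 0 := fun n => by
    have hξ := Formal2Chase7.eq_zero_of_map_eq_zero I f hf V₁ ξ (fun n => (toS _ V₁).injective (by
      rw [toS_map, AddEquiv.apply_symm_apply, AddEquiv.apply_symm_apply, ← mp_comp]; rfl))
      (fun n => (toS _ V₁).injective (by
        rw [toS_map, AddEquiv.apply_symm_apply, map_zero, ← mp_comp]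
        rw [show quotMap I f n ∘ₗ quotPowπ A I M' n = quotPowπ A I M n ∘ₗ f from rfl, mp_comp, hx, ← mp_r, hs n,
          map_zero])) n
    have := congrArg (toS _ V₁) hξ
    rwa [AddEquiv.apply_symm_apply, map_zero] at this
  obtain ⟨V₂, ⟨hV₂, hle₂⟩, h2⟩ := hi' V₁ hV₁ x h0
  refine ⟨V₂, ⟨hV₂, hle₂.trans hle⟩, ?_⟩
  rw [← r_r hle hle₂, ← hx, mp_r, h2, map_zero]

/-- Bijectivity for the outer terms gives it for the middle one. -/
theorem bijective_middle [Module.Finite A M] (f : M' →ₗ[A] M) (g : M →ₗ[A] M'') (hf : Function.Injective f)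
    (hg : Function.Surjective g) (hfg : LinearMap.range f = LinearMap.ker g)
    (h' : FormalCohColimBijective A I M' 0 U) (h'' : FormalCohColimBijective A I M'' 0 U) :
    FormalCohColimBijective A I M 0 U := by
  obtain ⟨i', s'⟩ := inj_surj_of_bijective h'
  obtain ⟨i'', s''⟩ := inj_surj_of_bijective h''
  have hi := inj_middle f g hf hg hfg i' i''
  exact bijective_of_inj_surj hi (surj_middle f g hf hg hfg hi s' s'')

end GrothLib.ColimSec7
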