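import Groth.Agent.Lib.ColimSec7.Main
import Groth.Agent.Lib.Formal2Sec7.Cmp
import Groth.Agent.Lib.GenT7.Bij
import Groth.Agent.Lib.GenT7.Seq
import Mathlib.RingTheory.Filtration

/-!
# The colimit of sections against the formal limit for a regular principal ideal
-/

set_option autoImplicit false
set_option linter.style.haveILetI false
set_option linter.unusedSectionVars false

universe u

open CategoryTheory AlgebraicGeometry Opposite TopologicalSpace Formal2

noncomputable section

namespace GrothLib.ColimSec7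

open GrothLib.Formal2Chase7 (tr)
open GrothLib.GenT7 (limSys projSys)

theorem ker_gen {R : CommRingCat.{u}} (E : ModuleCat.{u} R) (a : R) (m : E)
    (h : tilde.toOpen E (PrimeSpectrum.basicOpen a) m = 0) : ∃ l : ℕ, a ^ l • m = 0 := by
  obtain ⟨⟨_, l, rfl⟩, hl⟩ := (IsLocalizedModule.eq_zero_iff (.powers a)
    (tilde.toOpen E (PrimeSpectrum.basicOpen a)).hom).1 h
  exact ⟨l, hl⟩

variable {A : Type u} [CommRing A] [IsNoetherianRing A] {M N : Type u} [AddCommGroup M] [Module A M] [Module.Finite A M]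
  [AddCommGroup N] [Module A N]

/-- A section vanishing formally vanishes near `V(I)`. -/
theorem inj_of_finite (I : Ideal A) (U : (Spec (CommRingCat.of A)).Opens) : Inj I U M := by
  intro V hV s hs
  let J : Type u := {a : A // ∃ h : D a ≤ V, r M h s = 0}
  refine ⟨⨆ a : J, D a.1, ⟨⟨iSup_le fun a => a.2.1.trans hV.1, fun p hp hI => ?_⟩, iSup_le fun a => a.2.1⟩, ?_⟩
  · obtain ⟨_, ⟨_, ⟨a, rfl⟩, rfl⟩, hpa, haV⟩ :=
      PrimeSpectrum.isBasis_basic_opens.exists_subset_of_mem_open (hV.2 p hp hI) V.2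
    obtain ⟨k, m, hm⟩ := exists_pow_smul_eq (haV : D a ≤ V) s
    let P : PrimeSpectrum A := p
    let F := LocalizedModule.mkLinearMap P.asIdeal.primeCompl M
    have hle : I.map (algebraMap A (Localization P.asIdeal.primeCompl)) ≠ ⊤ := fun h =>
      ((IsLocalization.map_algebraMap_ne_top_iff_disjoint P.asIdeal.primeCompl _ _).2
        (Set.disjoint_left.2 fun x hx hxI => hx (hI hxI))) h
    have hmem : ∀ n : ℕ, F m ∈ I.map (algebraMap A (Localization P.asIdeal.primeCompl)) ^ n •
        (⊤ : Submodule (Localization P.asIdeal.primeCompl) (LocalizedModule P.asIdeal.primeCompl M)) := fun n => by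
      cases n with
      | zero => rw [pow_zero, Ideal.one_eq_top, Submodule.top_smul]; trivial
      | succ n =>
        have h1 : t (quotPow A I M n) (D a) (quotPowπ A I M n m) = 0 :=
          ((mp_t _ _ _).symm.trans (congrArg (mp (quotPowπ A I M n) (D a))
            ((r_t (haV : D a ≤ V) m).symm.trans (congrArg (r M (haV : D a ≤ V)) hm.symm)))).trans
            ((mp_r _ _ _).symm.trans (by rw [map_smul, hs n, smul_zero, map_zero]))
        obtain ⟨l, hl⟩ := ker_gen (R := CommRingCat.of A) (ModuleCat.of (CommRingCat.of A) (quotPow A I M n)) a _ h1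
        have h2 : a ^ l • m ∈ I ^ (n + 1) • (⊤ : Submodule A M) :=
          (Submodule.Quotient.mk_eq_zero _).1 ((Submodule.Quotient.mk_smul _ _ _).trans hl)
        have h3 : F (a ^ l • m) ∈ I.map (algebraMap A (Localization P.asIdeal.primeCompl)) ^ (n + 1) •
            (⊤ : Submodule (Localization P.asIdeal.primeCompl) (LocalizedModule P.asIdeal.primeCompl M)) := by
          refine Submodule.smul_induction_on h2 (fun c hc z _ => ?_) fun x y hx hy => by rw [map_add]; exact add_mem hx hy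
          rw [map_smul, ← algebraMap_smul (Localization P.asIdeal.primeCompl), ← Ideal.map_pow]
          exact Submodule.smul_mem_smul (Ideal.mem_map_of_mem _ hc) trivial
        rw [map_smul, ← algebraMap_smul (Localization P.asIdeal.primeCompl)] at h3
        obtain ⟨u, hu⟩ := IsLocalization.map_units (Localization P.asIdeal.primeCompl)
          (⟨a ^ l, fun hc => hpa (P.isPrime.mem_of_pow_mem l hc)⟩ : P.asIdeal.primeCompl)
        have h4 := Submodule.smul_mem _ (↑u⁻¹ : Localization P.asIdeal.primeCompl) h3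
        rw [smul_smul, ← hu, Units.inv_mul, one_smul] at h4
        exact h4
    have hbot := Ideal.iInf_pow_smul_eq_bot_of_isLocalRing (M := LocalizedModule P.asIdeal.primeCompl M) _ hle
    have h0 : F m = 0 := by
      rw [← Submodule.mem_bot (Localization P.asIdeal.primeCompl), ← hbot]
      exact (Submodule.mem_iInf _).2 hmem
    obtain ⟨⟨b, hb⟩, hb0⟩ := (IsLocalizedModule.eq_zero_iff P.asIdeal.primeCompl F).1 h0
    have hab : D (a * b) ≤ V := (PrimeSpectrum.basicOpen_mul_le_left a b).trans haV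
    refine Opens.mem_iSup.2 ⟨⟨a * b, hab, ?_⟩, fun hc => (P.isPrime.mem_or_mem hc).elim hpa hb⟩
    refine smul_injective (PrimeSpectrum.basicOpen_mul_le_left a b : D (a * b) ≤ D a) k ?_
    refine smul_injective (PrimeSpectrum.basicOpen_mul_le_right a b : D (a * b) ≤ D b) 1 ?_
    rw [smul_zero, smul_zero, pow_one, ← map_smul, ← map_smul, hm, ← map_smul, r_t,
      show b • m = 0 from hb0, map_zero]
  · refine eq_of_locally (U := fun a : J => D a.1) (fun a => le_iSup (fun a : J => D a.1) a) le_rfl fun a => ?_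
    rw [map_zero, r_r]
    exact a.2.2

variable (𝔞 : Ideal A) (f : A)

theorem mp_smul (c : A) (φ : M →ₗ[A] N) (s : S M (LocCoh.puncturedOpen A 𝔞)) :
    mp (c • φ) (LocCoh.puncturedOpen A 𝔞) s = c • mp φ (LocCoh.puncturedOpen A 𝔞) s :=
  Formal2Sec7.sm_smul 𝔞 c φ s

theorem finite_sections (N : Type u) [AddCommGroup N] [Module A N] [Module.Finite A N]
    (h : Module.Finite A (LocCoh.H 𝔞 1 N)) : Module.Finite A (S N (LocCoh.puncturedOpen A 𝔞)) := by
  haveI : Module.Finite A (Coh.HH (LocCoh.puncturedOpen A 𝔞 : Scheme.{u})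
      ((Punctured.puncFun 𝔞).obj (ModuleCat.of (CommRingCat.of A) N)) 0) := GenT7.finite_H0 𝔞 N h
  exact Module.Finite.equiv (Punctured.H0Sec 𝔞 (ModuleCat.of (CommRingCat.of A) N))

/-- Multiplication by `f` between consecutive quotients. -/
def upf (n : ℕ) : quotPow A (Ideal.span ({f} : Set A)) M n →ₗ[A] quotPow A (Ideal.span ({f} : Set A)) M (n + 1) :=
  Submodule.mapQ _ _ (f • LinearMap.id) fun x hx => by
    obtain ⟨y, rfl⟩ := (Formal2Sec7.mem_pow_smul f).1 hx
    exact (Formal2Sec7.mem_pow_smul f).2 ⟨y, by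
      show f ^ (n + 1 + 1) • y = f • f ^ (n + 1) • y
      rw [smul_smul, ← pow_succ']⟩

theorem upf_trans (n : ℕ) : upf (M := M) f n ∘ₗ quotPowTrans A (Ideal.span ({f} : Set A)) M n = f • LinearMap.id :=
  LinearMap.ext fun q => Submodule.Quotient.induction_on _ q fun x => rfl

theorem trans_upf (n : ℕ) : quotPowTrans A (Ideal.span ({f} : Set A)) M n ∘ₗ upf (M := M) f n = f • LinearMap.id :=
  LinearMap.ext fun q => Submodule.Quotient.induction_on _ q fun x => rfl

theorem upf_injective (hreg : IsSMulRegular M f) (n : ℕ) : Function.Injective (upf (M := M) f n) :=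
  (injective_iff_map_eq_zero _).2 fun q hq => by
    obtain ⟨x, rfl⟩ := Submodule.Quotient.mk_surjective _ q
    obtain ⟨y, hy⟩ := (Formal2Sec7.mem_pow_smul f).1 ((Submodule.Quotient.mk_eq_zero
      ((Ideal.span ({f} : Set A)) ^ (n + 1 + 1) • (⊤ : Submodule A M))).1 hq)
    refine (Submodule.Quotient.mk_eq_zero _).2 ((Formal2Sec7.mem_pow_smul f).2 ⟨y, hreg ?_⟩)
    rw [pow_succ' f (n + 1), mul_smul] at hy
    exact hy

theorem range_upf (k : ℕ) : LinearMap.range (upf (M := M) f k) =
    LinearMap.ker (tr (Ideal.span ({f} : Set A)) M (Nat.zero_le (k + 1))) := by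
  refine le_antisymm ?_ fun q hq => ?_
  · rintro _ ⟨q, rfl⟩
    obtain ⟨x, rfl⟩ := Submodule.Quotient.mk_surjective _ q
    exact (Submodule.Quotient.mk_eq_zero _).2 ((Formal2Sec7.mem_pow_smul f).2 ⟨x, by rw [pow_one]; rfl⟩)
  · obtain ⟨x, rfl⟩ := Submodule.Quotient.mk_surjective _ q
    obtain ⟨y, hy⟩ := (Formal2Sec7.mem_pow_smul f).1 ((Submodule.Quotient.mk_eq_zero
      ((Ideal.span ({f} : Set A)) ^ (0 + 1) • (⊤ : Submodule A M))).1 hq)
    exact ⟨Submodule.Quotient.mk y, congrArg Submodule.Quotient.mk (by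
      show f • y = x
      rw [← show f ^ (0 + 1) • y = x from hy, pow_one])⟩

variable [IsAdicComplete (Ideal.span ({f} : Set A)) A]

/-- The transition maps on sections. -/
abbrev gU (n : ℕ) : S (quotPow A (Ideal.span ({f} : Set A)) M (n + 1)) (LocCoh.puncturedOpen A 𝔞) →ₗ[A]
    S (quotPow A (Ideal.span ({f} : Set A)) M n) (LocCoh.puncturedOpen A 𝔞) :=
  mp (quotPowTrans A (Ideal.span ({f} : Set A)) M n) _

/-- The compatible families of sections. -/
abbrev Lm (M : Type u) [AddCommGroup M] [Module A M] [Module.Finite A M] :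
    Submodule A (∀ n, S (quotPow A (Ideal.span ({f} : Set A)) M n) (LocCoh.puncturedOpen A 𝔞)) :=
  limSys (S := fun n => S (quotPow A (Ideal.span ({f} : Set A)) M n) (LocCoh.puncturedOpen A 𝔞)) (gU (M := M) 𝔞 f)

/-- Their terms. -/
abbrev pr (M : Type u) [AddCommGroup M] [Module A M] [Module.Finite A M] (n : ℕ) :
    Lm 𝔞 f M →ₗ[A] S (quotPow A (Ideal.span ({f} : Set A)) M n) (LocCoh.puncturedOpen A 𝔞) :=
  projSys (S := fun n => S (quotPow A (Ideal.span ({f} : Set A)) M n) (LocCoh.puncturedOpen A 𝔞)) (gU (M := M) 𝔞 f) n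

theorem lim_facts (hreg : IsSMulRegular M f)
    (hfin : Module.Finite A (LocCoh.H 𝔞 1 (quotPow A (Ideal.span ({f} : Set A)) M 0))) :
    Module.Finite A (Lm 𝔞 f M) ∧
      ∀ z : Lm 𝔞 f M, pr 𝔞 f M 0 z = 0 →
        z ∈ Ideal.span ({f} : Set A) • (⊤ : Submodule A (Lm 𝔞 f M)) := by
  have hinj : ∀ n, Function.Injective (mp (upf (M := M) f n) (LocCoh.puncturedOpen A 𝔞)) :=
    fun n => mp_injective _ (upf_injective f hreg n) _
  have hfg : ∀ n y, mp (upf (M := M) f n) (LocCoh.puncturedOpen A 𝔞) (gU 𝔞 f n y) = f • y := fun n y => by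
    rw [← mp_comp, upf_trans, mp_smul, mp_id]
  have hgf : ∀ n y, gU 𝔞 f n (mp (upf (M := M) f n) (LocCoh.puncturedOpen A 𝔞) y) = f • y := fun n y => by
    rw [← mp_comp, trans_upf, mp_smul, mp_id]
  have hex : ∀ z : Lm 𝔞 f M, pr 𝔞 f M 0 z = 0 → ∀ k,
      ∃ y, mp (upf (M := M) f k) (LocCoh.puncturedOpen A 𝔞) y = pr 𝔞 f M (k + 1) z := fun z hz k =>
    exists_mp_eq _ _ (upf_injective f hreg k) (range_upf f k) _
      ((tr_z (fun n => pr 𝔞 f M n z) (fun n => GenT7.projSys_map _ n z) 0 (k + 1) _).trans hz)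
  have hkill : ∀ n, ∀ a ∈ Ideal.span ({f} : Set A) ^ (n + 1),
      ∀ y : S (quotPow A (Ideal.span ({f} : Set A)) M n) (LocCoh.puncturedOpen A 𝔞), a • y = 0 := fun n a ha y => by
    rw [← mp_id _ y, ← mp_smul, show a • (LinearMap.id : quotPow A (Ideal.span ({f} : Set A)) M n →ₗ[A] _) = 0 from
      LinearMap.ext fun q => Submodule.Quotient.induction_on _ q fun x => by
        exact (Submodule.Quotient.mk_eq_zero _).2 (Submodule.smul_mem_smul ha trivial), mp_zero]
  haveI : Module.Finite A (S (quotPow A (Ideal.span ({f} : Set A)) M 0) (LocCoh.puncturedOpen A 𝔞)) :=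
    finite_sections 𝔞 _ hfin
  haveI : IsPrecomplete (Ideal.span ({f} : Set A)) A := IsAdicComplete.toIsPrecomplete
  refine ⟨GenT7.finite_limSys (S := fun n => S (quotPow A (Ideal.span ({f} : Set A)) M n) (LocCoh.puncturedOpen A 𝔞))
      _ f _ hinj hfg hgf hex hkill, fun z hz => ?_⟩
  have h := (GenT7.projSys_eq_zero_iff (S := fun n => S (quotPow A (Ideal.span ({f} : Set A)) M n) (LocCoh.puncturedOpen A 𝔞))
      _ f _ hinj hfg hgf hex hkill 0 z).1 hz
  rwa [pow_one] at h

theorem surj_principal (hreg : IsSMulRegular M f)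
    (hfin : Module.Finite A (LocCoh.H 𝔞 1 (quotPow A (Ideal.span ({f} : Set A)) M 0))) :
    Surj (Ideal.span ({f} : Set A)) (LocCoh.puncturedOpen A 𝔞) M := by
  classical
  obtain ⟨hL, hker⟩ := lim_facts (M := M) 𝔞 f hreg hfin
  haveI := hL
  haveI : Module.Finite A (S (quotPow A (Ideal.span ({f} : Set A)) M 0) (LocCoh.puncturedOpen A 𝔞)) :=
    finite_sections 𝔞 _ hfin
  intro y hy
  let jM : M →ₗ[A] Lm 𝔞 f M :=
    (LinearMap.pi fun n => (t _ (LocCoh.puncturedOpen A 𝔞)).comp (quotPowπ A (Ideal.span ({f} : Set A)) M n)).codRestrict _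
      fun m n => (mp_t _ _ _).trans rfl
  obtain ⟨G, hG⟩ := Submodule.fg_def.1 (IsNoetherian.noetherian 𝔞)
  have hQ : ∀ a ∈ 𝔞, ∃ b : A, (∀ p : PrimeSpectrum A, a ∉ p.asIdeal → f ∈ p.asIdeal → b ∉ p.asIdeal) ∧
      ∀ z : Lm 𝔞 f M, ∃ m, jM m = b • z := fun a ha => by
    have hDa : D a ≤ LocCoh.puncturedOpen A 𝔞 := fun p hp hc => hp (hc ha)
    obtain ⟨d, gen, hgen⟩ := Module.Finite.exists_fin (R := A)
      (M := S (quotPow A (Ideal.span ({f} : Set A)) M 0) (LocCoh.puncturedOpen A 𝔞))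
    choose k m hm using fun i : Fin d => exists_pow_smul_eq hDa (gen i)
    let K := Finset.univ.sup k
    have hall : ∀ v : S (quotPow A (Ideal.span ({f} : Set A)) M 0) (LocCoh.puncturedOpen A 𝔞),
        a ^ K • v ∈ LinearMap.range (t _ (LocCoh.puncturedOpen A 𝔞) ∘ₗ quotPowπ A (Ideal.span ({f} : Set A)) M 0) := fun v => by
      have hv : v ∈ Submodule.span A (Set.range gen) := hgen ▸ trivial
      induction hv using Submodule.span_induction with
      | mem v hv =>
        obtain ⟨i, rfl⟩ := hv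
        obtain ⟨m', hm'⟩ := Submodule.Quotient.mk_surjective _ (m i)
        obtain ⟨l, hl⟩ := Nat.exists_eq_add_of_le (Finset.le_sup (f := k) (Finset.mem_univ i))
        refine ⟨a ^ l • m', ?_⟩
        rw [map_smul, LinearMap.comp_apply, show quotPowπ A (Ideal.span ({f} : Set A)) M 0 m' = m i from hm', ← hm i,
          smul_smul, ← pow_add, add_comm l (k i), ← hl]
      | zero => exact ⟨0, by rw [smul_zero, map_zero]⟩
      | add v w _ _ hv hw => rw [smul_add]; exact add_mem hv hw
      | smul c v _ hv => rw [smul_comm]; exact Submodule.smul_mem _ c hv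
    let Q := Lm 𝔞 f M ⧸ LinearMap.range jM
    have hrange : LinearMap.range (algebraMap A (Module.End A Q) (a ^ K)) ≤ Ideal.span ({f} : Set A) • ⊤ := by
      rintro _ ⟨q, rfl⟩
      obtain ⟨z, rfl⟩ := Submodule.Quotient.mk_surjective _ q
      obtain ⟨m', hm'⟩ := hall (pr 𝔞 f M 0 z)
      have h0 := hker (a ^ K • z - jM m') (by
        rw [map_sub, map_smul, ← hm']
        exact sub_self _)
      rw [Module.algebraMap_end_apply, ← Submodule.Quotient.mk_smul,
        show (Submodule.Quotient.mk (a ^ K • z) : Q) = Submodule.Quotient.mk (a ^ K • z - jM m') by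
          rw [Submodule.Quotient.eq, sub_sub_cancel]; exact LinearMap.mem_range_self _ _]
      have h1 := Submodule.mem_map_of_mem (f := (LinearMap.range jM).mkQ) h0
      rw [Submodule.map_smul''] at h1
      exact Submodule.smul_mono le_rfl le_top h1
    obtain ⟨p, hp, -, hcoef, hp0⟩ := LinearMap.exists_monic_and_coeff_mem_pow_and_aeval_eq_zero_of_range_le_smul A
      (algebraMap A (Module.End A Q) (a ^ K)) (Ideal.span ({f} : Set A)) hrange
    refine ⟨p.eval (a ^ K), fun P haP hfP hc => haP ?_, fun z => ?_⟩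
    · refine P.isPrime.mem_of_pow_mem (K * p.natDegree) ?_
      rw [Polynomial.eval_eq_sum_range, Finset.sum_range_succ] at hc
      rw [hp.coeff_natDegree, one_mul, ← pow_mul] at hc
      refine (Submodule.add_mem_iff_right _ (sum_mem fun i hi => ?_)).1 hc
      refine P.asIdeal.mul_mem_right _ ?_
      have hi' : 0 < p.natDegree - i := Nat.sub_pos_of_lt (Finset.mem_range.1 hi)
      exact ((Ideal.span_singleton_le_iff_mem _).2 hfP) (Ideal.pow_le_self hi'.ne' (hcoef i))
    · have h0 := LinearMap.congr_fun hp0 (Submodule.Quotient.mk z : Q)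
      rw [Polynomial.aeval_algebraMap_apply_eq_algebraMap_eval, Module.algebraMap_end_apply,
        LinearMap.zero_apply, ← Submodule.Quotient.mk_smul, Submodule.Quotient.mk_eq_zero] at h0
      exact h0
  choose! b hb hbz using hQ
  obtain ⟨k, e⟩ := hG.1.fin_param
  obtain ⟨gfun, -, rfl⟩ := e
  have hg : ∀ i, gfun i ∈ 𝔞 := fun i => hG.2 ▸ Ideal.subset_span (Set.mem_range_self i)
  let bs : Fin k → A := fun i => b (gfun i)
  let V₀ := LocCoh.puncturedOpen A 𝔞 ⊓ ⨆ i : ULift.{u} (Fin k), D (bs i.down)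
  have hV₀ : Admissible A (Ideal.span ({f} : Set A)) (LocCoh.puncturedOpen A 𝔞) V₀ := by
    refine ⟨inf_le_left, fun p hp hI => ⟨hp, ?_⟩⟩
    have hne : ∃ i, gfun i ∉ (p : PrimeSpectrum A).asIdeal := by
      by_contra hc
      push Not at hc
      exact hp (show (𝔞 : Set A) ⊆ (p : PrimeSpectrum A).asIdeal from hG.2 ▸ (Ideal.span_le.2 (Set.range_subset_iff.2 hc)))
    obtain ⟨i, hi⟩ := hne
    exact Opens.mem_iSup.2 ⟨⟨i⟩, hb (gfun i) (hg i) p hi (hI (Ideal.mem_span_singleton_self f))⟩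
  refine exists_section_of_smul (inj_of_finite _ _) y bs hV₀ (fun p hp => ?_) fun i => ?_
  · obtain ⟨⟨i⟩, hi⟩ := Opens.mem_iSup.1 hp.2
    exact ⟨i, hi⟩
  · obtain ⟨m, hm⟩ := hbz (gfun i) (hg i) ⟨y, hy⟩
    refine ⟨LocCoh.puncturedOpen A 𝔞, ⟨le_rfl, fun p hp _ => hp⟩, 1, t M (LocCoh.puncturedOpen A 𝔞) m, fun n => ?_⟩
    rw [mp_t, pow_one]
    refine (congrArg (fun z => pr 𝔞 f M n z) hm).trans ?_
    rw [map_smul]
    congr 1

/-- Bijectivity for a regular principal ideal. -/
theorem bijective_principal (hreg : IsSMulRegular M f)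
    (hfin : Module.Finite A (LocCoh.H 𝔞 1 (M ⧸ (Ideal.span ({f} : Set A) • (⊤ : Submodule A M))))) :
    FormalCohColimBijective A (Ideal.span ({f} : Set A)) M 0 (LocCoh.puncturedOpen A 𝔞) := by
  refine bijective_of_inj_surj (inj_of_finite _ _) (surj_principal 𝔞 f hreg ?_)
  have hP : Ideal.span ({f} : Set A) • (⊤ : Submodule A M) = Ideal.span ({f} : Set A) ^ (0 + 1) • ⊤ := by rw [pow_one]
  haveI := hfin
  exact Module.Finite.equiv ((localCohomology 𝔞 1).mapIso (Submodule.quotEquivOfEq _ _ hP).toModuleIso).toLinearEquiv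

end GrothLib.ColimSec7
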