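import Groth.Agent.Lib.ColimSec7.Basic
import Mathlib.Topology.Sheaves.SheafCondition.UniqueGluing

/-!
# Division, extension and gluing of sections of `M~`
-/

set_option autoImplicit false
set_option linter.style.haveILetI false
set_option linter.unusedSectionVars false

universe u

open CategoryTheory AlgebraicGeometry Opposite TopologicalSpace Formal2

noncomputable section

namespace GrothLib.ColimSec7

variable {A : Type u} [CommRing A] {M N : Type u} [AddCommGroup M] [Module A M] [AddCommGroup N] [Module A N]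

section Gen

variable {R : CommRingCat.{u}} (E : ModuleCat.{u} R)

theorem regular_gen {W : (Spec R).Opens} {a : R} (h : W ≤ PrimeSpectrum.basicOpen a) (k : ℕ) :
    IsSMulRegular ((modulesSpecToSheaf.obj (tilde E)).presheaf.obj (op W)) (a ^ k) :=
  ((tilde E).isSMulRegular_of_le_basicOpen h).pow k

theorem surjective_gen {W : (Spec R).Opens} {a : R} (h : W ≤ PrimeSpectrum.basicOpen a)
    (y : (modulesSpecToSheaf.obj (tilde E)).presheaf.obj (op W)) : ∃ z, a • z = y := by
  have hu := (tilde E).isUnit_algebraMap_end_of_le_basicOpen (U := W) a h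
  rw [Module.End.isUnit_iff] at hu
  exact hu.surjective y

theorem surj_gen (a : R) (z : (modulesSpecToSheaf.obj (tilde E)).presheaf.obj (op (PrimeSpectrum.basicOpen a))) :
    ∃ (n : ℕ) (m : E), a ^ n • z = tilde.toOpen E (PrimeSpectrum.basicOpen a) m := by
  obtain ⟨⟨m, ⟨_, n, rfl⟩⟩, hm⟩ := IsLocalizedModule.surj (.powers a)
    (tilde.toOpen E (PrimeSpectrum.basicOpen a)).hom z
  exact ⟨n, m, hm⟩

end Gen

/-- The basic open of an element. -/
abbrev D (a : A) : (Spec (CommRingCat.of A)).Opens := PrimeSpectrum.basicOpen a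

theorem smul_injective {W : (Spec (CommRingCat.of A)).Opens} {a : A} (h : W ≤ D a) (k : ℕ) {x y : S M W}
    (hxy : a ^ k • x = a ^ k • y) : x = y :=
  regular_gen (R := CommRingCat.of A) (ModuleCat.of (CommRingCat.of A) M) h k hxy

theorem smul_surjective {W : (Spec (CommRingCat.of A)).Opens} {a : A} (h : W ≤ D a) (k : ℕ) (x : S M W) :
    ∃ y : S M W, a ^ k • y = x := by
  induction k with
  | zero => exact ⟨x, by rw [pow_zero]; exact one_smul _ x⟩
  | succ k ih =>
    obtain ⟨y, rfl⟩ := ih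
    obtain ⟨z, hz⟩ := surjective_gen (R := CommRingCat.of A) (ModuleCat.of (CommRingCat.of A) M) h y
    exact ⟨z, by rw [pow_succ, mul_smul]; exact congrArg (a ^ k • ·) hz⟩

/-- Sections agreeing locally are equal. -/
theorem eq_of_locally {ι : Type u} {U : ι → (Spec (CommRingCat.of A)).Opens} {V : (Spec (CommRingCat.of A)).Opens}
    (hU : ∀ i, U i ≤ V) (hV : V ≤ iSup U) {x y : S M V} (h : ∀ i, r M (hU i) x = r M (hU i) y) : x = y :=
  TopCat.Sheaf.eq_of_locally_eq' (modulesSpecToSheaf.obj (tilde (ModuleCat.of (CommRingCat.of A) M)))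
    U V (fun i => homOfLE (hU i)) hV x y h

/-- Compatible sections glue. -/
theorem exists_glue {ι : Type u} {U : ι → (Spec (CommRingCat.of A)).Opens} {V : (Spec (CommRingCat.of A)).Opens}
    (hU : ∀ i, U i ≤ V) (hV : V ≤ iSup U) (x : ∀ i, S M (U i))
    (h : ∀ i j, r M (inf_le_left : U i ⊓ U j ≤ U i) (x i) = r M (inf_le_right : U i ⊓ U j ≤ U j) (x j)) :
    ∃ s : S M V, ∀ i, r M (hU i) s = x i := by
  obtain ⟨s, hs, -⟩ := TopCat.Sheaf.existsUnique_gluing' (modulesSpecToSheaf.obj (tilde (ModuleCat.of (CommRingCat.of A) M)))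
    U V (fun i => homOfLE (hU i)) hV x h
  exact ⟨s, hs⟩

variable [IsNoetherianRing A]

/-- A section extends to all of `Spec A` after multiplying by a power of an element whose basic open lies in it. -/
theorem exists_pow_smul_eq {V : (Spec (CommRingCat.of A)).Opens} {a : A} (h : D a ≤ V) (s : S M V) :
    ∃ (k : ℕ) (m : M), a ^ k • s = t M V m := by
  obtain ⟨n, m, hm⟩ := surj_gen (R := CommRingCat.of A) (ModuleCat.of (CommRingCat.of A) M) a (r M h s)
  have h0 : r M h (a ^ n • s - t M V m) = 0 := by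
    rw [map_sub, map_smul, r_t, sub_eq_zero]
    exact hm
  obtain ⟨j, hj⟩ := Punctured.exists_pow_smul_eq_zero_of_res (R := CommRingCat.of A)
    (ModuleCat.of (CommRingCat.of A) M) a h _ h0
  refine ⟨j + n, a ^ j • m, ?_⟩
  rw [map_smul, pow_add, mul_smul, ← sub_eq_zero, ← smul_sub]
  exact hj

/-- The sections of a module killed by a power of `I` live on `V(I)`. -/
theorem r_injective {I : Ideal A} {n : ℕ} (hM : ∀ a ∈ I ^ n, ∀ m : M, a • m = 0)
    {U V : (Spec (CommRingCat.of A)).Opens} (hV : Admissible A I U V) : Function.Injective (r M hV.1) := by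
  intro x y hxy
  let J : Type u := {g : A // D g ≤ U ∧ (D g ≤ V ∨ g ∈ I)}
  have hcov : U ≤ ⨆ g : J, D g.1 := fun p hp => by
    rw [Opens.mem_iSup]
    obtain ⟨_, ⟨_, ⟨a, rfl⟩, rfl⟩, hpa, haU⟩ := PrimeSpectrum.isBasis_basic_opens.exists_subset_of_mem_open hp U.2
    by_cases hI : p ∈ PrimeSpectrum.zeroLocus (R := A) I
    · obtain ⟨_, ⟨_, ⟨b, rfl⟩, rfl⟩, hpb, hbV⟩ := PrimeSpectrum.isBasis_basic_opens.exists_subset_of_mem_open (hV.2 p hp hI) V.2
      exact ⟨⟨b, hbV.trans hV.1, Or.inl hbV⟩, hpb⟩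
    · obtain ⟨i, hi, hip⟩ := Set.not_subset.1 hI
      refine ⟨⟨i * a, (PrimeSpectrum.basicOpen_mul_le_right i a).trans haU, Or.inr (I.mul_mem_right a hi)⟩, ?_⟩
      exact fun hc => ((p : PrimeSpectrum A).isPrime.mem_or_mem hc).elim hip hpa
  refine eq_of_locally (U := fun g : J => D g.1) (fun g => g.2.1) hcov fun g => ?_
  rcases g.2.2 with hg | hg
  · rw [← r_r hV.1 hg, hxy, r_r]
  · have hz : ∀ z : S M (D g.1), z = 0 := fun z => by
      obtain ⟨k, m, hm⟩ := surj_gen (R := CommRingCat.of A) (ModuleCat.of (CommRingCat.of A) M) g.1 z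
      refine smul_injective le_rfl (n + k) ?_
      rw [smul_zero, pow_add, mul_smul]
      exact ((congrArg (g.1 ^ n • ·) hm).trans ((t M (D g.1)).map_smul _ m).symm).trans
        ((congrArg (t M (D g.1)) (hM _ (Ideal.pow_mem_pow hg n) m)).trans (map_zero _))
    rw [hz (r M g.2.1 x), hz (r M g.2.1 y)]

end GrothLib.ColimSec7
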